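import Groth.Agent.DomDVR.KrullAkizuki
import Mathlib.RingTheory.DedekindDomain.AdicValuation
import Mathlib.RingTheory.Valuation.LocalSubring
import Mathlib.RingTheory.Ideal.GoingUp
import Mathlib.RingTheory.Ideal.KrullsHeightTheorem
import Mathlib.RingTheory.Adjoin.FG
import Mathlib.RingTheory.Ideal.Height

/-! Discrete valuation rings dominating a Noetherian local domain. -/

open nonZeroDivisors IsLocalRing

universe u

namespace Groth.Agent.DomDVR

variable {R : Type u} [CommRing R] [IsDomain R] [IsNoetherianRing R]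

/-- The one dimensional case. -/
theorem exists_dvr_dominating_of_krullDimLE_one [IsLocalRing R] [Ring.KrullDimLE 1 R] (hR : ¬ IsField R)
    (K : Type u) [Field K] [Algebra R K] [IsFractionRing R K] :
    ∃ V : ValuationSubring K, IsDiscreteValuationRing V ∧ (∀ r, algebraMap R K r ∈ V) ∧
      ∀ r ∈ maximalIdeal R, algebraMap R K r ∈ V.nonunits := by
  let D := integralClosure R K
  haveI : IsDedekindDomain D := isDedekindDomain_integralClosure
  obtain ⟨Q, hQ, hQR⟩ := Ideal.exists_maximal_ideal_liesOver_of_isIntegral (S := D) (maximalIdeal R)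
  have hcomap : ∀ r, r ∈ maximalIdeal R ↔ algebraMap R D r ∈ Q := fun r => by rw [hQR.over]; rfl
  have hQ0 : Q ≠ ⊥ := by
    obtain ⟨r, hr, hr0⟩ := Submodule.exists_mem_ne_zero_of_ne_bot (IsLocalRing.isField_iff_maximalIdeal_eq.not.mp hR)
    intro h
    apply hr0
    have h2 : algebraMap R D r = 0 := by simpa [h] using (hcomap r).mp hr
    apply IsFractionRing.injective R K
    rw [map_zero]
    exact congrArg Subtype.val h2
  let v : IsDedekindDomain.HeightOneSpectrum D := ⟨Q, hQ.isPrime, hQ0⟩
  let V := IsDedekindDomain.HeightOneSpectrum.valuationSubringAtPrime K v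
  haveI : IsLocalization.AtPrime V Q :=
    Localization.subalgebra.isLocalization_ofField K v.asIdeal.primeCompl v.asIdeal.primeCompl_le_nonZeroDivisors
  haveI hV : IsDiscreteValuationRing V :=
    IsLocalization.AtPrime.isDiscreteValuationRing_of_dedekind_domain D hQ0 V
  refine ⟨V, hV, fun r => (algebraMap D V (algebraMap R D r)).2, fun r hr => ?_⟩
  have h1 : algebraMap D V (algebraMap R D r) ∈ maximalIdeal V :=
    (IsLocalization.AtPrime.to_map_mem_maximal_iff V Q _).mpr ((hcomap r).mp hr)
  have h2 := ValuationSubring.coe_mem_nonunits_iff.mpr h1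
  exact h2

/-- A Noetherian local domain which is not a field is dominated by a discrete valuation ring of its
fraction field. -/
theorem exists_dvr_dominating [IsLocalRing R] (hR : ¬ IsField R) (K : Type u) [Field K] [Algebra R K]
    [IsFractionRing R K] :
    ∃ V : ValuationSubring K, IsDiscreteValuationRing V ∧ (∀ r, algebraMap R K r ∈ V) ∧
      ∀ r ∈ maximalIdeal R, algebraMap R K r ∈ V.nonunits := by
  classical
  obtain ⟨W, hW, hWl⟩ := IsLocalRing.exists_factor_valuationRing (algebraMap R K)
  obtain ⟨s, hs⟩ := (IsNoetherian.noetherian (maximalIdeal R) : (maximalIdeal R).FG)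
  have hne : ∃ x ∈ s, x ≠ (0 : R) := by
    by_contra h
    push Not at h
    refine IsLocalRing.isField_iff_maximalIdeal_eq.not.mp hR ?_
    rw [← hs, Submodule.span_eq_bot]
    exact h
  obtain ⟨a, has, hmax⟩ := s.exists_max_image (fun x => W.valuation (algebraMap R K x))
    (by obtain ⟨x, hx, -⟩ := hne; exact ⟨x, hx⟩)
  have ha0 : algebraMap R K a ≠ 0 := by
    obtain ⟨x, hx, hx0⟩ := hne
    intro h
    have := hmax x hx
    rw [h, map_zero, le_zero_iff, Valuation.zero_iff] at this
    exact hx0 (IsFractionRing.injective R K (this.trans (map_zero _).symm))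
  have ham : a ∈ maximalIdeal R := hs ▸ Submodule.subset_span has
  let R₁ := Algebra.adjoin R ((s.image fun x => algebraMap R K x / algebraMap R K a) : Set K)
  haveI : IsNoetherianRing R₁ := isNoetherianRing_of_fg (Subalgebra.fg_adjoin_finset _)
  have hR₁ : ∀ x ∈ R₁, x ∈ W := by
    intro x hx
    induction hx using Algebra.adjoin_induction with
    | mem y hy =>
      obtain ⟨z, hz, rfl⟩ := Finset.mem_image.mp hy
      rw [← W.valuation_le_one_iff, map_div₀, div_le_one₀ (zero_lt_iff.mpr ((W.valuation.ne_zero_iff).mpr ha0))]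
      exact hmax z hz
    | algebraMap r => exact hW r
    | add x y _ _ hx hy => exact add_mem hx hy
    | mul x y _ _ hx hy => exact mul_mem hx hy
  have haW : algebraMap R K a ∈ W.nonunits := by
    have : (⟨algebraMap R K a, hW a⟩ : W) ∈ maximalIdeal W :=
      fun h => ham (IsUnit.of_map ((algebraMap R K).codRestrict W.toSubring hW) a h)
    exact ValuationSubring.coe_mem_nonunits_iff.mpr this
  have hI : Ideal.span {algebraMap R R₁ a} ≠ ⊤ := by
    intro h
    obtain ⟨b, hb⟩ := Ideal.mem_span_singleton'.mp (h.ge (Submodule.mem_top : (1 : R₁) ∈ ⊤))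
    rw [ValuationSubring.mem_nonunits_iff_or] at haW
    rcases haW with h0 | h0
    · exact ha0 h0
    · apply h0
      have : (b : K) * algebraMap R K a = 1 := congrArg Subtype.val hb
      rw [← eq_inv_of_mul_eq_one_left this]
      exact hR₁ _ b.2
  obtain ⟨P, hP⟩ := (Ideal.span {algebraMap R R₁ a}).nonempty_minimalPrimes hI
  haveI := hP.1.1
  have haP : algebraMap R R₁ a ∈ P := hP.1.2 (Ideal.mem_span_singleton_self _)
  have hmP : ∀ r ∈ maximalIdeal R, algebraMap R R₁ r ∈ P := by
    intro r hr
    rw [← hs] at hr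
    induction hr using Submodule.span_induction with
    | mem x hx =>
      have : algebraMap R R₁ x = ⟨algebraMap R K x / algebraMap R K a,
          Algebra.subset_adjoin (Finset.mem_image_of_mem _ hx)⟩ * algebraMap R R₁ a :=
        Subtype.ext (div_mul_cancel₀ _ ha0).symm
      rw [this]
      exact P.mul_mem_left _ haP
    | zero => rw [map_zero]; exact P.zero_mem
    | add x y _ _ hx hy => rw [map_add]; exact P.add_mem hx hy
    | smul c x _ hx => rw [smul_eq_mul, map_mul]; exact P.mul_mem_left _ hx
  let T := Localization.subalgebra.ofField K P.primeCompl P.primeCompl_le_nonZeroDivisors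
  haveI : IsLocalization.AtPrime T P := Localization.subalgebra.isLocalization_ofField K P.primeCompl _
  haveI : IsLocalRing T := IsLocalization.AtPrime.isLocalRing T P
  haveI : IsNoetherianRing T := IsLocalization.isNoetherianRing P.primeCompl T inferInstance
  haveI : Ring.KrullDimLE 1 T := by
    rw [Ring.KrullDimLE, Order.krullDimLE_iff]
    show ringKrullDim T ≤ _
    rw [IsLocalization.AtPrime.ringKrullDim_eq_height P T]
    exact_mod_cast Ideal.height_le_one_of_isPrincipal_of_mem_minimalPrimes _ P hP
  have haT : algebraMap R₁ T (algebraMap R R₁ a) ∈ maximalIdeal T :=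
    (IsLocalization.AtPrime.to_map_mem_maximal_iff T P _).mpr haP
  have hT : ¬ IsField T := by
    intro h
    rw [IsLocalRing.isField_iff_maximalIdeal_eq.mp h, Submodule.mem_bot] at haT
    exact ha0 (congrArg Subtype.val haT)
  obtain ⟨V, hV, h1, h2⟩ := exists_dvr_dominating_of_krullDimLE_one hT K
  refine ⟨V, hV, fun r => h1 (algebraMap R₁ T (algebraMap R R₁ r)), fun r hr => ?_⟩
  exact h2 _ ((IsLocalization.AtPrime.to_map_mem_maximal_iff T P _).mpr (hmP r hr))

/-- A nontrivial specialisation in the spectrum of a Noetherian ring is realised by a discrete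
valuation ring. -/
theorem exists_dvr_specialization {A : Type u} [CommRing A] [IsNoetherianRing A] (p q : Ideal A)
    [p.IsPrime] [q.IsPrime] (hpq : p < q) :
    ∃ (B : Type u) (_ : CommRing B) (_ : IsDomain B) (_ : IsDiscreteValuationRing B) (f : A →+* B),
      RingHom.ker f = p ∧ (maximalIdeal B).comap f = q := by
  let A' := A ⧸ p
  haveI : (q.map (Ideal.Quotient.mk p)).IsPrime :=
    Ideal.map_isPrime_of_surjective Ideal.Quotient.mk_surjective (by rw [Ideal.mk_ker]; exact hpq.le)
  let q' := q.map (Ideal.Quotient.mk p)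
  have hq' : q'.comap (Ideal.Quotient.mk p) = q := by
    rw [Ideal.comap_map_of_surjective _ Ideal.Quotient.mk_surjective, ← RingHom.ker_eq_comap_bot, Ideal.mk_ker]
    exact sup_eq_left.mpr hpq.le
  let R := Localization.AtPrime q'
  haveI : IsNoetherianRing R := IsLocalization.isNoetherianRing q'.primeCompl R inferInstance
  have hinj : Function.Injective (algebraMap A' R) :=
    IsLocalization.injective R q'.primeCompl_le_nonZeroDivisors
  have hR : ¬ IsField R := by
    intro h
    obtain ⟨x, hxq, hxp⟩ := SetLike.exists_of_lt hpq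
    have hx : algebraMap A' R (Ideal.Quotient.mk p x) ∈ maximalIdeal R :=
      (IsLocalization.AtPrime.to_map_mem_maximal_iff R q' _).mpr (Ideal.mem_map_of_mem _ hxq)
    rw [IsLocalRing.isField_iff_maximalIdeal_eq.mp h, Submodule.mem_bot] at hx
    exact hxp (Ideal.Quotient.eq_zero_iff_mem.mp (hinj (hx.trans (map_zero _).symm)))
  obtain ⟨V, hV, h1, h2⟩ := exists_dvr_dominating hR (FractionRing R)
  let g : R →+* V := (algebraMap R (FractionRing R)).codRestrict V.toSubring h1
  refine ⟨V, inferInstance, inferInstance, hV, (g.comp (algebraMap A' R)).comp (Ideal.Quotient.mk p), ?_, ?_⟩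
  · ext a
    rw [RingHom.mem_ker]
    refine ⟨fun h => ?_, fun h => ?_⟩
    · exact Ideal.Quotient.eq_zero_iff_mem.mp (hinj ((IsFractionRing.injective R (FractionRing R)
        ((congrArg Subtype.val h).trans (map_zero _).symm)).trans (map_zero _).symm))
    · rw [RingHom.comp_apply, Ideal.Quotient.eq_zero_iff_mem.mpr h, map_zero]
  · have hg : (maximalIdeal V).comap g = maximalIdeal R :=
      (le_maximalIdeal (Ideal.comap_ne_top _ (maximalIdeal.isMaximal V).ne_top)).antisymm fun r hr =>
        ValuationSubring.coe_mem_nonunits_iff.mp (h2 r hr)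
    rw [← Ideal.comap_comap, ← Ideal.comap_comap, hg]
    exact (congrArg _ (IsLocalization.AtPrime.comap_maximalIdeal R q')).trans hq'

end Groth.Agent.DomDVR
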