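import Groth.Agent.DomDVR.KrullAkizuki
import Mathlib

/-!
# Integral closure of a one dimensional Noetherian domain in a finite extension
-/

set_option autoImplicit false
set_option linter.style.haveILetI false

universe u

open nonZeroDivisors

namespace Groth.Agent.DomDVR

theorem isDedekindDomain_integralClosure_finite (O K L : Type u) [CommRing O] [IsDomain O]
    [IsNoetherianRing O] [Ring.DimensionLEOne O] [Field K] [Algebra O K] [IsFractionRing O K] [Field L]
    [Algebra K L] [Algebra O L] [IsScalarTower O K L] [FiniteDimensional K L] :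
    IsDedekindDomain (integralClosure O L) := by
  classical
  let b := Module.finBasis K L
  have hgen : ∀ i, ∃ m : O⁰, IsIntegral O (m • b i) := fun i =>
    IsIntegral.exists_multiple_integral_of_isLocalization O⁰ (Rₘ := K) (b i)
      (Algebra.IsIntegral.isIntegral _)
  choose m hm using hgen
  let R1 : Subalgebra O L := Algebra.adjoin O (Set.range fun i => m i • b i)
  haveI : Module.Finite O R1 :=
    Module.Finite.iff_fg.2 (fg_adjoin_of_finite (Set.finite_range _) (by rintro _ ⟨i, rfl⟩; exact hm i))
  haveI : Algebra.IsIntegral O R1 := Algebra.IsIntegral.of_finite O R1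
  haveI : IsNoetherianRing R1 := IsNoetherianRing.of_finite O R1
  have hOL : Function.Injective (algebraMap O L) := by
    rw [IsScalarTower.algebraMap_eq O K L, RingHom.coe_comp]
    exact (algebraMap K L).injective.comp (IsFractionRing.injective O K)
  haveI : Ring.KrullDimLE 1 R1 := by
    refine Ring.krullDimLE_one_iff_of_isPrime_bot.2 fun P hP hP' => ?_
    have hcomap : P.comap (algebraMap O R1) ≠ ⊥ := fun h => hP (Ideal.eq_bot_of_comap_eq_bot h)
    haveI : (P.comap (algebraMap O R1)).IsPrime := inferInstance
    exact Ideal.isMaximal_of_isIntegral_of_isMaximal_comap (R := O) P (Ring.DimensionLEOne.maximalOfPrime hcomap inferInstance)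
  haveI : IsFractionRing R1 L := by
    have htop : ∀ x : L, x ∈ Subfield.closure (R1 : Set L) := by
      intro x
      have hO : ∀ o : O, algebraMap O L o ∈ Subfield.closure (R1 : Set L) := fun o =>
        Subfield.subset_closure (R1.algebraMap_mem o)
      have hK : ∀ c : K, algebraMap K L c ∈ Subfield.closure (R1 : Set L) := fun c => by
        obtain ⟨p, q, -, rfl⟩ := IsFractionRing.div_surjective O c
        rw [map_div₀, ← IsScalarTower.algebraMap_apply, ← IsScalarTower.algebraMap_apply]
        exact div_mem (hO p) (hO q)
      have hb : ∀ i, b i ∈ Subfield.closure (R1 : Set L) := fun i => by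
        have h1 : m i • b i ∈ Subfield.closure (R1 : Set L) :=
          Subfield.subset_closure (Algebra.subset_adjoin ⟨i, rfl⟩)
        have h0 : algebraMap O L (m i : O) ≠ 0 :=
          (map_ne_zero_iff _ hOL).2 (nonZeroDivisors.coe_ne_zero _)
        have h2 : b i = (algebraMap O L (m i : O))⁻¹ * (m i • b i) := by
          rw [Submonoid.smul_def, Algebra.smul_def, inv_mul_cancel_left₀ h0]
        rw [h2]
        exact mul_mem (inv_mem (hO _)) h1
      rw [← b.sum_repr x]
      refine sum_mem fun i _ => ?_
      rw [Algebra.smul_def]
      exact mul_mem (hK _) (hb i)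
    refine IsFractionRing.of_field R1 L fun x => ?_
    obtain ⟨y, hy, z, hz, rfl⟩ := Subfield.mem_closure_iff.1 (htop x)
    rw [show Subring.closure (R1 : Set L) = R1.toSubring from Subring.closure_eq R1.toSubring] at hy hz
    exact ⟨⟨y, hy⟩, ⟨z, hz⟩, rfl⟩
  haveI : IsDedekindDomain (integralClosure R1 L) := isDedekindDomain_integralClosure
  have heq : ∀ x : L, IsIntegral R1 x ↔ IsIntegral O x :=
    fun x => ⟨fun h => isIntegral_trans (R := O) _ h, fun h => h.tower_top⟩
  have h : (integralClosure R1 L).toSubring = (integralClosure O L).toSubring := SetLike.ext heq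
  show IsDedekindDomain ↥(integralClosure O L).toSubring
  rw [← h]
  exact inferInstanceAs (IsDedekindDomain (integralClosure R1 L))

end Groth.Agent.DomDVR
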