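import Mathlib.RingTheory.OrderOfVanishing.Basic
import Mathlib.RingTheory.Length
import Mathlib.RingTheory.Localization.FractionRing
import Mathlib.RingTheory.Localization.Integer
import Mathlib.RingTheory.Localization.AsSubring
import Mathlib.RingTheory.Artinian.Ring
import Mathlib.RingTheory.DedekindDomain.Basic

/-! The Krull–Akizuki theorem. -/

open nonZeroDivisors
open scoped Pointwise

universe u v

namespace Groth.Agent.DomDVR

variable {R : Type u} [CommRing R] [IsDomain R] [IsNoetherianRing R] [Ring.KrullDimLE 1 R]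
  {K : Type v} [Field K] [Algebra R K] [IsFractionRing R K]

theorem length_ideal_quotient_le (I : Ideal R) {a : R} (ha : a ≠ 0) :
    Module.length R (I ⧸ (Ideal.span {a} • ⊤ : Submodule R I)) ≤ Ring.ord R a := by
  rcases eq_or_ne I ⊥ with rfl | hI
  · rw [Module.length_eq_zero]; exact zero_le
  obtain ⟨b, hbI, hb⟩ := Submodule.exists_mem_ne_zero_of_ne_bot hI
  have h1 : Module.length R (R ⧸ I) ≠ ⊤ := by
    refine ne_top_of_le_ne_top (Ring.ord_ne_top (R := R) (mem_nonZeroDivisors_of_ne_zero hb)) ?_
    exact Module.length_le_of_surjective _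
      (Submodule.factor_surjective ((Ideal.span_singleton_le_iff_mem I).mpr hbI))
  have h2 := Module.length_eq_add_of_exact (Ideal.mulQuot a I) (Ideal.quotOfMul a I)
    (Ideal.mulQuot_injective I (mem_nonZeroDivisors_of_ne_zero ha)) (Ideal.quotOfMul_surjective I)
    (Ideal.exact_mulQuot_quotOfMul I)
  let J : Ideal R := a • I
  have hJ : J ≤ I := fun x hx => by
    obtain ⟨y, hy, rfl⟩ := (Submodule.mem_smul_pointwise_iff_exists x a I).mp hx
    exact I.smul_mem a hy
  let f : I →ₗ[R] R ⧸ J := J.mkQ ∘ₗ I.subtype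
  have hker : LinearMap.ker f = (Ideal.span {a} • ⊤ : Submodule R I) := by
    ext x
    rw [Submodule.ideal_span_singleton_smul, LinearMap.mem_ker, Submodule.mem_smul_pointwise_iff_exists]
    simp only [f, LinearMap.comp_apply, Submodule.mkQ_apply, Submodule.Quotient.mk_eq_zero, J,
      Submodule.mem_smul_pointwise_iff_exists, Submodule.subtype_apply]
    constructor
    · rintro ⟨y, hy, h⟩
      exact ⟨⟨y, hy⟩, trivial, Subtype.ext h⟩
    · rintro ⟨y, -, rfl⟩
      exact ⟨y.1, y.2, rfl⟩
  let g : (R ⧸ J) →ₗ[R] R ⧸ I := Submodule.factor hJ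
  have h3 := Module.length_eq_add_of_exact (LinearMap.range f).subtype g Subtype.val_injective
    (Submodule.factor_surjective hJ)
    (by
      intro z
      induction z using Submodule.Quotient.induction_on with
      | H r =>
        constructor
        · intro hr
          exact ⟨⟨_, ⟨⟨r, (Submodule.Quotient.mk_eq_zero I).mp hr⟩, rfl⟩⟩, rfl⟩
        · rintro ⟨⟨_, ⟨x, rfl⟩⟩, hx⟩
          rw [← hx]
          exact (Submodule.Quotient.mk_eq_zero I).mpr x.2)
  rw [← hker, f.quotKerEquivRange.length_eq]
  change Module.length R (R ⧸ J) = _ at h2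
  rw [h2] at h3
  have : Module.length R (LinearMap.range f) + Module.length R (R ⧸ I) ≤
      Ring.ord R a + Module.length R (R ⧸ I) := by
    rw [← h3, add_comm]; exact le_rfl
  exact (ENat.add_le_add_iff_right h1).mp this

include R in
theorem length_quotient_smul_le (M : Type*) [AddCommGroup M] [Module R M] [Module.Finite R M]
    (ι : M →ₗ[R] K) (hι : Function.Injective ι) {a : R} (ha : a ≠ 0) :
    Module.length R (M ⧸ (Ideal.span {a} • ⊤ : Submodule R M)) ≤ Ring.ord R a := by
  classical
  obtain ⟨n, v, hv⟩ := Module.Finite.exists_fin (R := R) (M := M)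
  obtain ⟨c, hc⟩ := IsLocalization.exist_integer_multiples (nonZeroDivisors R) Finset.univ (fun i => ι (v i))
  let j : M →ₗ[R] K := (c : R) • ι
  have hj : ∀ x, j x ∈ LinearMap.range (Algebra.linearMap R K) := by
    intro x
    have hx : x ∈ Submodule.span R (Set.range v) := hv ▸ trivial
    induction hx using Submodule.span_induction with
    | mem y hy =>
      obtain ⟨i, rfl⟩ := hy
      exact hc i (Finset.mem_univ i)
    | zero => rw [map_zero]; exact zero_mem _
    | add x y _ _ hx hy => rw [map_add]; exact add_mem hx hy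
    | smul r x _ hx => rw [map_smul]; exact Submodule.smul_mem _ r hx
  let e := LinearEquiv.ofInjective (Algebra.linearMap R K) (IsFractionRing.injective R K)
  let φ : M →ₗ[R] R := e.symm.toLinearMap ∘ₗ j.codRestrict _ hj
  have hφ : Function.Injective φ := by
    refine e.symm.injective.comp ?_
    intro x y h
    have hxy : (c : R) • ι x = (c : R) • ι y := congrArg Subtype.val h
    rw [Algebra.smul_def, Algebra.smul_def] at hxy
    exact hι (mul_left_cancel₀ (IsFractionRing.to_map_ne_zero_of_mem_nonZeroDivisors c.2) hxy)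
  let E := LinearEquiv.ofInjective φ hφ
  have hE : (Ideal.span {a} • ⊤ : Submodule R M).map (E : M →ₗ[R] LinearMap.range φ) = Ideal.span {a} • ⊤ := by
    rw [Submodule.map_smul'', Submodule.map_top, LinearEquiv.range]
  rw [(Submodule.Quotient.equiv _ _ E hE).length_eq]
  exact length_ideal_quotient_le _ ha

theorem length_map_mkQ_le (R' : Subalgebra R K) {a : R} (ha : a ≠ 0) (I : Ideal R')
    (haI : algebraMap R R' a ∈ I) (M : Submodule R R') (hM : M.FG) :
    Module.length R (M.map (I.mkQ.restrictScalars R)) ≤ Ring.ord R a := by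
  haveI : Module.Finite R M := Module.Finite.iff_fg.mpr hM
  let π := I.mkQ.restrictScalars R
  let g : M →ₗ[R] M.map π := π.submoduleMap M
  have hle : (Ideal.span {a} • ⊤ : Submodule R M) ≤ LinearMap.ker g := by
    rw [Submodule.smul_le]
    intro r hr x _
    obtain ⟨r, rfl⟩ := Ideal.mem_span_singleton'.mp hr
    rw [LinearMap.mem_ker]
    refine Subtype.ext ((Submodule.Quotient.mk_eq_zero _).mpr ?_)
    show (r * a) • (x : R') ∈ I
    rw [Algebra.smul_def, map_mul, mul_right_comm]
    exact I.mul_mem_left _ haI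
  refine le_trans (Module.length_le_of_surjective (Submodule.liftQ _ g hle) ?_)
    (length_quotient_smul_le (K := K) M (R'.val.toLinearMap ∘ₗ M.subtype)
      (Subtype.val_injective.comp Subtype.val_injective) ha)
  intro y
  obtain ⟨x, rfl⟩ := π.submoduleMap_surjective M y
  exact ⟨Submodule.Quotient.mk x, rfl⟩

omit [IsDomain R] [IsNoetherianRing R] [Ring.KrullDimLE 1 R] in
theorem isFiniteLength_of_surjective_bounded {X Q : Type*} [AddCommGroup X] [Module R X] [AddCommGroup Q]
    [Module R Q] (π : X →ₗ[R] Q) (hπ : Function.Surjective π) {D : ℕ∞} (hD : D ≠ ⊤)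
    (h : ∀ M : Submodule R X, M.FG → Module.length R (M.map π) ≤ D) : IsFiniteLength R Q := by
  classical
  have key : ∀ N : Submodule R Q, N.FG → Module.length R N ≤ D := by
    intro N hN
    obtain ⟨s, hs⟩ := hN
    choose t ht using hπ
    have hM : (Submodule.span R (s.image t : Set X)).map π = N := by
      rw [Submodule.map_span, ← hs, Finset.coe_image, ← Set.image_comp]
      congr 1
      ext x
      simp [ht]
    rw [← hM]
    exact h _ ⟨s.image t, rfl⟩
  obtain ⟨d, hd'⟩ := ENat.ne_top_iff_exists.mp hD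
  let P : ℕ → Prop := fun m => ∃ N : Submodule R Q, N.FG ∧ Module.length R N = m
  have hP0 : P 0 := ⟨⊥, Submodule.fg_bot, Module.length_eq_zero⟩
  obtain ⟨N, hN, hlen⟩ : P (Nat.findGreatest P d) := Nat.findGreatest_spec (P := P) (Nat.zero_le d) hP0
  have htop : N = ⊤ := by
    rw [eq_top_iff]
    rintro x -
    let N' := N ⊔ Submodule.span R {x}
    have hN' : N'.FG := hN.sup (Submodule.fg_span_singleton x)
    have hne := ne_top_of_le_ne_top hD (key N' hN')
    obtain ⟨m, hm⟩ := ENat.ne_top_iff_exists.mp hne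
    have hmd : m ≤ d := ENat.coe_le_coe.mp (by rw [hm, hd']; exact key N' hN')
    have hmle : m ≤ Nat.findGreatest P d := Nat.le_findGreatest hmd ⟨N', hN', hm.symm⟩
    haveI : IsNoetherian R N' := (isFiniteLength_iff_isNoetherian_isArtinian.mp (Module.length_ne_top_iff.mp hne)).1
    haveI : IsArtinian R N' := (isFiniteLength_iff_isNoetherian_isArtinian.mp (Module.length_ne_top_iff.mp hne)).2
    by_contra hx
    have hlt : (N.comap N'.subtype) ≠ ⊤ := fun h => hx
      (h.ge (Submodule.mem_top : (⟨x, Submodule.mem_sup_right (Submodule.mem_span_singleton_self x)⟩ : N') ∈ ⊤))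
    have := Submodule.length_lt hlt
    rw [(Submodule.comapSubtypeEquivOfLe (le_sup_left : N ≤ N')).length_eq, hlen, ← hm] at this
    exact absurd (ENat.coe_lt_coe.mp this) (not_lt.mpr hmle)
  rw [← Module.length_ne_top_iff, ← Module.length_top, ← htop, hlen]
  exact ENat.coe_ne_top _

/-- `R'/I` has finite length for every ring `R'` between `R` and `K` and ideal `I ∋ a`. -/
theorem isFiniteLength_quotient (R' : Subalgebra R K) {a : R} (ha : a ≠ 0) (I : Ideal R')
    (haI : algebraMap R R' a ∈ I) : IsFiniteLength R ((R' : Type v) ⧸ I) :=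
  isFiniteLength_of_surjective_bounded (I.mkQ.restrictScalars R) (Submodule.mkQ_surjective I)
    (Ring.ord_ne_top (mem_nonZeroDivisors_of_ne_zero ha)) (length_map_mkQ_le R' ha I haI)

theorem exists_ne_zero_algebraMap_mem (R' : Subalgebra R K) {J : Ideal R'} (hJ : J ≠ ⊥) :
    ∃ a : R, a ≠ 0 ∧ algebraMap R R' a ∈ J := by
  obtain ⟨x, hx, hx0⟩ := Submodule.exists_mem_ne_zero_of_ne_bot hJ
  obtain ⟨⟨r, s⟩, h⟩ := IsLocalization.surj (nonZeroDivisors R) (x : K)
  refine ⟨r, fun hr => hx0 ?_, ?_⟩
  · rw [hr, map_zero, mul_eq_zero] at h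
    exact Subtype.ext (h.resolve_right (IsFractionRing.to_map_ne_zero_of_mem_nonZeroDivisors s.2))
  · have : algebraMap R R' r = algebraMap R R' s * x := Subtype.ext (h.symm.trans (mul_comm _ _))
    rw [this]
    exact J.mul_mem_left _ hx

theorem isNoetherianRing_of_subalgebra (R' : Subalgebra R K) : IsNoetherianRing R' := by
  refine ⟨fun J => ?_⟩
  rcases eq_or_ne J ⊥ with rfl | hJ
  · exact Submodule.fg_bot
  obtain ⟨a, ha, haJ⟩ := exists_ne_zero_algebraMap_mem R' hJ
  let I : Ideal R' := Ideal.span {algebraMap R R' a}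
  have hI : I ≤ J := (Ideal.span_singleton_le_iff_mem J).mpr haJ
  haveI : IsNoetherian R ((R' : Type v) ⧸ I) :=
    (isFiniteLength_iff_isNoetherian_isArtinian.mp (isFiniteLength_quotient R' ha I (Ideal.mem_span_singleton_self _))).1
  haveI : IsNoetherian R' ((R' : Type v) ⧸ I) := isNoetherian_of_tower R inferInstance
  refine Submodule.fg_of_fg_map_of_fg_inf_ker I.mkQ (IsNoetherian.noetherian _) ?_
  rw [Submodule.ker_mkQ, inf_eq_right.mpr hI]
  exact Submodule.fg_span_singleton _

theorem isMaximal_of_ne_bot (R' : Subalgebra R K) {P : Ideal R'} [P.IsPrime] (hP : P ≠ ⊥) :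
    P.IsMaximal := by
  obtain ⟨a, ha, haP⟩ := exists_ne_zero_algebraMap_mem R' hP
  haveI : IsArtinian R ((R' : Type v) ⧸ P) :=
    (isFiniteLength_iff_isNoetherian_isArtinian.mp (isFiniteLength_quotient R' ha P haP)).2
  haveI : IsArtinian R' ((R' : Type v) ⧸ P) := isArtinian_of_tower R inferInstance
  haveI : IsArtinianRing ((R' : Type v) ⧸ P) := isArtinian_of_tower R' inferInstance
  exact Ideal.Quotient.maximal_of_isField _ (IsArtinianRing.isField_of_isDomain _)

instance dimensionLEOne_of_subalgebra (R' : Subalgebra R K) : Ring.DimensionLEOne R' :=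
  ⟨fun hp h => @isMaximal_of_ne_bot _ _ _ _ _ _ _ _ _ R' _ h hp⟩

/-- The integral closure of a one dimensional Noetherian domain is a Dedekind domain. -/
theorem isDedekindDomain_integralClosure : IsDedekindDomain (integralClosure R K) := by
  haveI := isNoetherianRing_of_subalgebra (integralClosure R K)
  refine (isDedekindDomain_iff (integralClosure R K) K).mpr
    ⟨inferInstance, inferInstance, inferInstance, fun {x} hx => ?_⟩
  exact ⟨⟨x, isIntegral_trans (R := R) x hx⟩, rfl⟩

end Groth.Agent.DomDVR
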