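import Mathlib
import Groth.Agent.NormalSch.Normalization

/-! Affine charts of the normalization of an integral scheme, and localisation of integral closures. -/

set_option autoImplicit false
set_option backward.isDefEq.respectTransparency false
set_option backward.defeqAttrib.useBackward true
set_option linter.style.haveILetI false

universe u

open CategoryTheory AlgebraicGeometry

namespace Groth.Agent.DomDVR

/-- Inclusion of integral closures. -/
def icIncl (A O Q : Type u) [CommRing A] [CommRing O] [CommRing Q] [Algebra A O] [Algebra O Q] [Algebra A Q]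
    [IsScalarTower A O Q] : integralClosure A Q →ₗ[A] integralClosure O Q where
  toFun c := ⟨c.1, IsIntegral.tower_top c.2⟩
  map_add' _ _ := rfl
  map_smul' r c := Subtype.ext rfl

theorem isLocalizedModule_icIncl {A : Type u} [CommRing A] (M : Submonoid A) (O Q : Type u) [CommRing O] [CommRing Q]
    [Algebra A O] [Algebra O Q] [Algebra A Q] [IsScalarTower A O Q] [IsLocalization M O] :
    IsLocalizedModule M (icIncl A O Q) := by
  refine ⟨fun s => ?_, fun y => ?_, fun {c₁ c₂} h => ⟨1, ?_⟩⟩
  · obtain ⟨v, hv⟩ := IsLocalization.map_units O s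
    refine (Module.End.isUnit_iff _).mpr ?_
    have : (fun z : integralClosure O Q => (algebraMap A O s.1) • z) = fun z => (s.1 : A) • z := funext fun z =>
      Subtype.ext (IsScalarTower.algebraMap_smul O (s.1 : A) (z : Q))
    show Function.Bijective fun z : integralClosure O Q => (s.1 : A) • z
    rw [← this, ← hv]
    exact MulAction.bijective v
  · obtain ⟨m, hm⟩ := IsIntegral.exists_multiple_integral_of_isLocalization M (y : Q) y.2
    exact ⟨⟨⟨_, hm⟩, m⟩, Subtype.ext rfl⟩
  · have h1 : (c₁ : Q) = c₂ := congrArg (fun z : integralClosure O Q => (z : Q)) h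
    rw [Subtype.ext h1]

/-- The normalization over a nonempty affine open is the integral closure in any fraction field. -/
theorem exists_normalization_chart (X : Scheme.{u}) [IsIntegral X]
    [QuasiCompact (X.fromSpecStalk (genericPoint X))] [QuasiSeparated (X.fromSpecStalk (genericPoint X))]
    {U : X.Opens} (hU : IsAffineOpen U) [Nonempty U] (L : Type u) [CommRing L] [Algebra Γ(X, U) L] [IsFractionRing Γ(X, U) L] :
    ∃ e : integralClosure Γ(X, U) L ≃+* Γ(Curv2.normalization X, Curv2.normalizationι X ⁻¹ᵁ U),
      ∀ a, e (algebraMap Γ(X, U) _ a) = ((Curv2.normalizationι X).app U).hom a := by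
  let φ : X.functionField →+* X.presheaf.stalk (genericPoint X) := RingHom.id _
  letI : Field (X.presheaf.stalk (genericPoint X)) := inferInstanceAs (Field X.functionField)
  let g := X.fromSpecStalk (genericPoint X)
  have hg : g = Spec.map (CommRingCat.ofHom φ) ≫ X.fromSpecStalk (genericPoint X) := by
    rw [show Spec.map (CommRingCat.ofHom φ) = 𝟙 (Spec (X.presheaf.stalk (genericPoint X))) from Spec.map_id _]
    exact (Category.id_comp _).symm
  letI algL : Algebra Γ(X, U) Γ(Spec (CommRingCat.of (X.presheaf.stalk (genericPoint X))), g ⁻¹ᵁ U) := (g.app U).hom.toAlgebra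
  let L' := Γ(Spec (CommRingCat.of (X.presheaf.stalk (genericPoint X))), g ⁻¹ᵁ U)
  let ε : X.functionField ≃+* L' := FinIntClosure.fieldEquiv φ g hg U
  haveI : IsFractionRing Γ(X, U) X.functionField := functionField_isFractionRing_of_isAffineOpen X U hU
  let εA : X.functionField ≃ₐ[Γ(X, U)] L' := AlgEquiv.ofRingEquiv (f := ε) fun a => by
    change _ = (g.app U) a
    rw [FinIntClosure.app_eq φ g hg U]
    rfl
  let η : L ≃ₐ[Γ(X, U)] L' := (IsLocalization.algEquiv (nonZeroDivisors Γ(X, U)) L X.functionField).trans εA
  refine ⟨η.mapIntegralClosure.toRingEquiv.trans (g.normalizationObjIso hU).commRingCatIsoToRingEquiv.symm, fun a => ?_⟩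
  show (g.normalizationObjIso hU).inv (η.mapIntegralClosure (algebraMap Γ(X, U) _ a)) = g.fromNormalization.app U a
  rw [AlgEquiv.commutes, g.fromNormalization_app hU]
  rfl

end Groth.Agent.DomDVR
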