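import Mathlib
import Groth.Agent.DomDVR.KrullAkizuki

/-! Consequences of the Krull–Akizuki theorem for a ring isomorphic to the integral closure. -/

set_option autoImplicit false

universe u

namespace Groth.Agent.DomDVR

variable {A L B : Type u} [CommRing A] [IsDomain A] [IsNoetherianRing A] [Ring.KrullDimLE 1 A]
  [Field L] [Algebra A L] [IsFractionRing A L] [CommRing B]
  (e : integralClosure A L ≃+* B) (ρ : A →+* B) (he : ∀ a, e (algebraMap A _ a) = ρ a)

include e in
theorem isNoetherianRing_of_equiv : IsNoetherianRing B :=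
  haveI := isNoetherianRing_of_subalgebra (R := A) (integralClosure A L)
  isNoetherianRing_of_ringEquiv _ e

include e in
theorem isMaximal_of_equiv {P : Ideal B} [P.IsPrime] (hP : P ≠ ⊥) : P.IsMaximal := by
  haveI := isMaximal_of_ne_bot (R := A) (integralClosure A L) (P := P.comap e.toRingHom) (fun h => hP (by
    have h1 := Ideal.map_comap_of_surjective e.toRingHom e.surjective P
    rw [h, Ideal.map_bot] at h1
    exact h1.symm))
  rw [← Ideal.map_comap_of_surjective e.toRingHom e.surjective P]
  exact Ideal.IsMaximal.map_bijective e.toRingHom e.bijective inferInstance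

include he in
theorem finite_comp_mk {a : A} (ha : a ≠ 0) (P : Ideal B) (haP : ρ a ∈ P) :
    ((Ideal.Quotient.mk P).comp ρ).Finite := by
  let I : Ideal (integralClosure A L) := P.comap e.toRingHom
  have haI : algebraMap A (integralClosure A L) a ∈ I := by
    show e (algebraMap A _ a) ∈ P
    rw [he]
    exact haP
  haveI : IsNoetherian A ((integralClosure A L : Type u) ⧸ I) :=
    (isFiniteLength_iff_isNoetherian_isArtinian.mp (isFiniteLength_quotient (integralClosure A L) ha I haI)).1
  have h1 : (algebraMap A ((integralClosure A L : Type u) ⧸ I)).Finite :=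
    RingHom.finite_algebraMap.2 (inferInstanceAs (Module.Finite A ((integralClosure A L : Type u) ⧸ I)))
  let q : ((integralClosure A L : Type u) ⧸ I) →+* B ⧸ P := Ideal.quotientMap P e.toRingHom le_rfl
  have hq : Function.Surjective q := by
    intro y
    obtain ⟨b, rfl⟩ := Ideal.Quotient.mk_surjective y
    exact ⟨Ideal.Quotient.mk I (e.symm b), congrArg (Ideal.Quotient.mk P) (e.apply_symm_apply b)⟩
  convert (RingHom.Finite.of_surjective q hq).comp h1 using 1
  ext x
  exact congrArg (Ideal.Quotient.mk P) (he x).symm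

include he in
theorem exists_frac (b : B) : ∃ (r s : A), s ≠ 0 ∧ b * ρ s = ρ r := by
  obtain ⟨⟨r, s⟩, h⟩ := IsLocalization.surj (nonZeroDivisors A) ((e.symm b : integralClosure A L) : L)
  refine ⟨r, s, nonZeroDivisors.ne_zero s.2, ?_⟩
  rw [← he, ← he, ← e.apply_symm_apply b, ← map_mul]
  exact congrArg e (Subtype.ext h)

include he in
theorem finite_primes_over {a : A} (ha : a ≠ 0) (ha' : ρ a ≠ 0) :
    {P : Ideal B | P.IsPrime ∧ ρ a ∈ P}.Finite := by
  haveI := isNoetherianRing_of_equiv (A := A) (L := L) e
  refine ((Ideal.span {ρ a}).finite_minimalPrimes_of_isNoetherianRing B).subset ?_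
  rintro P ⟨hP, haP⟩
  haveI := hP
  refine ⟨⟨hP, (Ideal.span_singleton_le_iff_mem _).2 haP⟩, fun Q hQ hQP => ?_⟩
  haveI := hQ.1
  have hQ0 : Q ≠ ⊥ := fun h => ha' (by
    have h1 := hQ.2 (Ideal.mem_span_singleton_self (ρ a))
    rwa [h, Submodule.mem_bot] at h1)
  exact le_of_eq ((isMaximal_of_equiv (A := A) (L := L) e hQ0).eq_of_le hP.ne_top hQP).symm

end Groth.Agent.DomDVR
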